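import Mathlib

/-! Length of the cokernel of a square matrix over a one-dimensional noetherian ring. -/

namespace Groth.Agent.OrdDet

open Matrix

universe u v

variable {A : Type u} [CommRing A]

/-- Length of the cokernel of a square matrix. -/
noncomputable def cokerLen {n : ℕ} (M : Matrix (Fin n) (Fin n) A) : ℕ∞ :=
  Module.length A ((Fin n → A) ⧸ LinearMap.range M.mulVecLin)

theorem mulVec_inj_of_det {n : ℕ} (M : Matrix (Fin n) (Fin n) A) (h : M.det ∈ nonZeroDivisors A) :
    Function.Injective M.mulVecLin := by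
  intro v w hvw
  have hvw' : M *ᵥ v = M *ᵥ w := hvw
  have := congrArg (fun z => M.adjugate *ᵥ z) hvw'
  simp only [mulVec_mulVec, adjugate_mul, smul_mulVec, one_mulVec] at this
  funext i
  have hi := congrFun this i
  simp only [Pi.smul_apply, smul_eq_mul] at hi
  exact (mul_cancel_left_mem_nonZeroDivisors h).mp hi

theorem cokerLen_mul {n : ℕ} (M X : Matrix (Fin n) (Fin n) A) (hM : M.det ∈ nonZeroDivisors A) :
    cokerLen (M * X) = cokerLen X + cokerLen M := by
  let P := LinearMap.range (M * X).mulVecLin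
  let Q := LinearMap.range M.mulVecLin
  have hPQ : P ≤ Q := by
    rintro _ ⟨v, rfl⟩
    exact ⟨X *ᵥ v, by simp [mulVec_mulVec]⟩
  let f : ((Fin n → A) ⧸ LinearMap.range X.mulVecLin) →ₗ[A] (Fin n → A) ⧸ P :=
    Submodule.mapQ _ P M.mulVecLin (by
      rintro _ ⟨v, rfl⟩
      exact ⟨v, by simp [mulVec_mulVec]⟩)
  refine Module.length_eq_add_of_exact f (Submodule.factor hPQ) ?_ (Submodule.factor_surjective hPQ) ?_
  · rw [← LinearMap.ker_eq_bot, eq_bot_iff]
    intro z hz
    induction z using Submodule.Quotient.induction_on with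
    | H v =>
      rw [LinearMap.mem_ker] at hz
      obtain ⟨w, hw⟩ := (Submodule.Quotient.mk_eq_zero P).mp hz
      refine (Submodule.Quotient.mk_eq_zero _).mpr ⟨w, mulVec_inj_of_det M hM ?_⟩
      rw [← hw]; simp [mulVec_mulVec]
  · intro z
    induction z using Submodule.Quotient.induction_on with
    | H x =>
      constructor
      · intro hx
        obtain ⟨v, hv⟩ := (Submodule.Quotient.mk_eq_zero Q).mp hx
        exact ⟨Submodule.Quotient.mk v, (congrArg (Submodule.Quotient.mk (p := P)) hv :)⟩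
      · rintro ⟨y, hy⟩
        induction y using Submodule.Quotient.induction_on with
        | H v =>
          rw [← hy]
          exact (Submodule.Quotient.mk_eq_zero Q).mpr ⟨v, rfl⟩

theorem cokerLen_one {n : ℕ} : cokerLen (1 : Matrix (Fin n) (Fin n) A) = 0 := by
  refine Module.length_eq_zero_iff.mpr (Submodule.Quotient.subsingleton_iff.mpr ?_)
  exact eq_top_iff.mpr fun x _ => ⟨x, by simp⟩

theorem cokerLen_of_isUnit {n : ℕ} (M : Matrix (Fin n) (Fin n) A) (h : IsUnit M.det) : cokerLen M = 0 := by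
  refine Module.length_eq_zero_iff.mpr (Submodule.Quotient.subsingleton_iff.mpr ?_)
  exact eq_top_iff.mpr fun x _ => ⟨M⁻¹ *ᵥ x, by simp [mulVec_mulVec, Matrix.mul_nonsing_inv M h]⟩

theorem det_block {n : ℕ} (M : Matrix (Fin (n + 1)) (Fin (n + 1)) A) (h0 : ∀ j : Fin n, M 0 j.succ = 0) :
    M.det = M 0 0 * (M.submatrix Fin.succ Fin.succ).det := by
  rw [Matrix.det_succ_row_zero, Fin.sum_univ_succ]
  simp [h0]

theorem cokerLen_block {n : ℕ} (M : Matrix (Fin (n + 1)) (Fin (n + 1)) A) (h0 : ∀ j : Fin n, M 0 j.succ = 0)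
    (ha : M 0 0 ∈ nonZeroDivisors A) :
    cokerLen M = cokerLen (M.submatrix Fin.succ Fin.succ) + Ring.ord A (M 0 0) := by
  let N := M.submatrix Fin.succ Fin.succ
  let c : (Fin n → A) →ₗ[A] (Fin (n + 1) → A) :=
    { toFun := fun v => (Fin.cons 0 v : Fin (n + 1) → A)
      map_add' := fun v w => by ext i; cases i using Fin.cases <;> simp
      map_smul' := fun r v => by ext i; cases i using Fin.cases <;> simp }
  have hMv : ∀ w : Fin (n + 1) → A, (M *ᵥ w) 0 = M 0 0 * w 0 := fun w => by
    simp [mulVec, dotProduct, Fin.sum_univ_succ, h0]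
  have hMs : ∀ w : Fin (n + 1) → A, ∀ i : Fin n,
      (M *ᵥ w) i.succ = M i.succ 0 * w 0 + (N *ᵥ fun j => w j.succ) i := fun w i => by
    simp [mulVec, dotProduct, Fin.sum_univ_succ, N]
  let f : ((Fin n → A) ⧸ LinearMap.range N.mulVecLin) →ₗ[A] (Fin (n + 1) → A) ⧸ LinearMap.range M.mulVecLin :=
    Submodule.mapQ _ _ c (by
      rintro _ ⟨v, rfl⟩
      refine ⟨Fin.cons 0 v, ?_⟩
      ext i
      cases i using Fin.cases with
      | zero => simp [c, hMv]
      | succ i => simp [c, hMs])
  let g : ((Fin (n + 1) → A) ⧸ LinearMap.range M.mulVecLin) →ₗ[A] A ⧸ Ideal.span {M 0 0} :=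
    Submodule.mapQ _ _ (LinearMap.proj 0) (by
      rintro _ ⟨v, rfl⟩
      show (M *ᵥ v) 0 ∈ Ideal.span {M 0 0}
      rw [hMv]
      exact Ideal.mul_mem_right _ _ (Ideal.mem_span_singleton_self _))
  refine Module.length_eq_add_of_exact f g ?_ ?_ ?_
  · rw [← LinearMap.ker_eq_bot, eq_bot_iff]
    intro z hz
    induction z using Submodule.Quotient.induction_on with
    | H v =>
      obtain ⟨w, hw⟩ := (Submodule.Quotient.mk_eq_zero _).mp (show Submodule.Quotient.mk (c v) = 0 from hz)
      have h1 := congrFun hw 0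
      simp [c, hMv] at h1
      have hw0 : w 0 = 0 := (mul_right_mem_nonZeroDivisors_eq_zero_iff ha).mp (by rwa [mul_comm] at h1)
      refine (Submodule.Quotient.mk_eq_zero _).mpr ⟨fun j => w j.succ, ?_⟩
      ext i
      have h2 := congrFun hw i.succ
      simp [c, hMs, hw0] at h2
      simpa using h2
  · intro q
    induction q using Submodule.Quotient.induction_on with
    | H x => exact ⟨Submodule.Quotient.mk (Fin.cons x 0), rfl⟩
  · intro z
    induction z using Submodule.Quotient.induction_on with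
    | H x =>
      constructor
      · intro hx
        obtain ⟨r, hr⟩ := Ideal.mem_span_singleton'.mp ((Submodule.Quotient.mk_eq_zero _).mp hx)
        refine ⟨Submodule.Quotient.mk (fun i => x i.succ - M i.succ 0 * r), ?_⟩
        refine (Submodule.Quotient.eq _).mpr ⟨Fin.cons (-r) 0, ?_⟩
        ext i
        cases i using Fin.cases with
        | zero =>
          simp only [LinearMap.proj_apply] at hr
          simp [c, hMv, ← hr, mul_comm]
        | succ i =>
          simp only [mulVecLin_apply, Pi.sub_apply, c, LinearMap.coe_mk, AddHom.coe_mk, Fin.cons_succ, hMs,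
            Fin.cons_zero]
          rw [show (fun j : Fin n => (0 : Fin n → A) j) = 0 from rfl, mulVec_zero]
          simp
      · rintro ⟨y, hy⟩
        induction y using Submodule.Quotient.induction_on with
        | H v =>
          rw [← hy]
          exact (Submodule.Quotient.mk_eq_zero _).mpr (Submodule.zero_mem _)

/-- Simultaneous avoidance of the associated primes: a vector `a` with `a 0` and `∑ a j * v j`
non-zero-divisors, if the entries of `v` generate an ideal containing a non-zero-divisor. -/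
theorem exists_nzd_comb [IsNoetherianRing A] {n : ℕ} (v : Fin (n + 1) → A)
    (hv : ∀ P ∈ associatedPrimes A A, ∃ j, v j ∉ P) :
    ∃ a : Fin (n + 1) → A, a 0 ∈ nonZeroDivisors A ∧ (∑ j, v j * a j) ∈ nonZeroDivisors A := by
  classical
  let s := (associatedPrimes.finite A A).toFinset
  let T := s.filter fun P => Maximal (fun Q => Q ∈ s) P
  have hcover : ∀ P ∈ s, ∃ Q ∈ T, P ≤ Q := by
    intro P hP
    obtain ⟨Q, hPQ, hQ⟩ := s.finite_toSet.exists_le_maximal (Finset.mem_coe.mpr hP)
    exact ⟨Q, Finset.mem_filter.mpr ⟨hQ.1, hQ⟩, hPQ⟩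
  have hnzd : ∀ x : A, (∀ Q ∈ T, x ∉ Q) → x ∈ nonZeroDivisors A := by
    intro x hx
    by_contra hc
    have : x ∈ ⋃ p ∈ associatedPrimes A A, (p : Set A) := by
      rw [biUnion_associatedPrimes_eq_compl_nonZeroDivisors]; exact hc
    obtain ⟨P, hP, hxP⟩ := Set.mem_iUnion₂.mp this
    obtain ⟨Q, hQ, hPQ⟩ := hcover P ((associatedPrimes.finite A A).mem_toFinset.mpr hP)
    exact hx Q hQ (hPQ hxP)
  have hTs : ∀ Q ∈ T, Q ∈ associatedPrimes A A := fun Q hQ =>
    (associatedPrimes.finite A A).mem_toFinset.mp (Finset.mem_filter.mp hQ).1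
  have hsep : ∀ P ∈ T, ∀ Q ∈ T, Q ≠ P → ∃ x ∈ Q, x ∉ P := by
    intro P hP Q hQ hne
    by_contra hc
    push Not at hc
    exact hne (((Finset.mem_filter.mp hQ).2).eq_of_le (Finset.mem_filter.mp hP).1 hc)
  choose! x hxQ hxP using hsep
  let e : Ideal A → A := fun P => ∏ Q ∈ T.erase P, x P Q
  have he : ∀ P ∈ T, e P ∉ P := by
    intro P hP hmem
    haveI := (hTs P hP).isPrime
    obtain ⟨Q, hQ, h'⟩ := (Ideal.IsPrime.prod_mem_iff).mp hmem
    exact hxP P hP Q (Finset.mem_of_mem_erase hQ) (Finset.ne_of_mem_erase hQ) h'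
  have he' : ∀ P ∈ T, ∀ Q ∈ T, Q ≠ P → e P ∈ Q := by
    intro P hP Q hQ hne
    exact Ideal.prod_mem (I := Q) (Finset.mem_erase.mpr ⟨hne, hQ⟩) (hxQ P hP Q hQ hne)
  have hw : ∀ P ∈ T, ∃ w : Fin (n + 1) → A, w 0 = 1 ∧ (∑ j, v j * w j) ∉ P := by
    intro P hP
    by_cases h0 : v 0 ∈ P
    · obtain ⟨j, hj⟩ := hv P (hTs P hP)
      have hj0 : j ≠ 0 := fun h => hj (h ▸ h0)
      refine ⟨Pi.single 0 1 + Pi.single j 1, by simp [hj0.symm], fun hmem => hj ?_⟩
      simp [mul_add, Finset.sum_add_distrib, Pi.single_apply] at hmem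
      exact (Submodule.add_mem_iff_right P h0).mp hmem
    · exact ⟨Pi.single 0 1, by simp, by simpa [Pi.single_apply] using h0⟩
  choose! w hw0 hwP using hw
  have key : ∀ (g : Ideal A → A), ∀ P ∈ T, g P ∉ P → (∑ Q ∈ T, e Q * g Q) ∉ P := by
    intro g P hP hg hmem
    haveI := (hTs P hP).isPrime
    rw [← Finset.add_sum_erase T _ hP] at hmem
    have hrest : (∑ Q ∈ T.erase P, e Q * g Q) ∈ P := sum_mem fun Q hQ =>
      Ideal.mul_mem_right _ _ (he' Q (Finset.mem_of_mem_erase hQ) P hP (Finset.ne_of_mem_erase hQ).symm)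
    rcases (hTs P hP).isPrime.mem_or_mem ((Submodule.add_mem_iff_left P hrest).mp hmem) with h | h
    · exact he P hP h
    · exact hg h
  refine ⟨fun j => ∑ Q ∈ T, e Q * w Q j, hnzd _ fun P hP => ?_, hnzd _ fun P hP => ?_⟩
  · exact key (fun Q => w Q 0) P hP (by rw [hw0 P hP]; exact (Ideal.ne_top_iff_one P).mp (hTs P hP).isPrime.ne_top)
  · have : (∑ j, v j * ∑ Q ∈ T, e Q * w Q j) = ∑ Q ∈ T, e Q * ∑ j, v j * w Q j := by
      simp only [Finset.mul_sum]
      rw [Finset.sum_comm]
      exact Finset.sum_congr rfl fun Q _ => Finset.sum_congr rfl fun j _ => by ring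
    rw [this]
    exact key (fun Q => ∑ j, v j * w Q j) P hP (hwP P hP)

/-- Over a noetherian ring of dimension at most one, the length of the cokernel is the order of the
determinant. -/
theorem cokerLen_eq_ord_det [IsNoetherianRing A] [Ring.KrullDimLE 1 A] :
    ∀ {n : ℕ} (M : Matrix (Fin n) (Fin n) A), M.det ∈ nonZeroDivisors A → cokerLen M = Ring.ord A M.det := by
  intro n
  induction n with
  | zero =>
    intro M _
    rw [det_fin_zero, Ring.ord_one]
    exact Module.length_eq_zero
  | succ n ih =>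
    have hdiv : ∀ {x y : A}, x * y ∈ nonZeroDivisors A → x ∈ nonZeroDivisors A ∧ y ∈ nonZeroDivisors A :=
      fun h => mul_mem_nonZeroDivisors.mp h
    have hblock : ∀ M : Matrix (Fin (n + 1)) (Fin (n + 1)) A, (∀ j : Fin n, M 0 j.succ = 0) →
        M.det ∈ nonZeroDivisors A → cokerLen M = Ring.ord A M.det := by
      intro M h0 hM
      rw [det_block M h0] at hM ⊢
      obtain ⟨h1, h2⟩ := hdiv hM
      rw [cokerLen_block M h0 h1, ih _ h2, Ring.ord_mul' A h1, add_comm]
    have hcancel : ∀ M X : Matrix (Fin (n + 1)) (Fin (n + 1)) A, M.det ∈ nonZeroDivisors A →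
        X.det ∈ nonZeroDivisors A → cokerLen X = Ring.ord A X.det →
        cokerLen (M * X) = Ring.ord A (M * X).det → cokerLen M = Ring.ord A M.det := by
      intro M X hM hX hX' hMX
      rw [cokerLen_mul M X hM, det_mul, Ring.ord_mul A hX, hX', add_comm] at hMX
      exact (ENat.add_left_injective_of_ne_top (Ring.ord_ne_top hX)) hMX
    intro M hM
    -- a non-zero-divisor in the top left corner
    have hv : ∀ P ∈ associatedPrimes A A, ∃ j, M 0 j ∉ P := by
      intro P hP
      by_contra hc
      push Not at hc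
      have hmem : M.det ∈ P := by
        rw [Matrix.det_succ_row_zero]
        exact sum_mem fun j _ => Ideal.mul_mem_right _ _ (Ideal.mul_mem_left _ _ (hc j))
      have : M.det ∈ ⋃ p ∈ associatedPrimes A A, (p : Set A) := Set.mem_iUnion₂.mpr ⟨P, hP, hmem⟩
      rw [biUnion_associatedPrimes_eq_compl_nonZeroDivisors] at this
      exact this hM
    obtain ⟨a, ha0, hx⟩ := exists_nzd_comb (M 0) hv
    let X : Matrix (Fin (n + 1)) (Fin (n + 1)) A := Matrix.of fun i j => if j = 0 then a i else if i = j then 1 else 0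
    have hX0 : ∀ j : Fin n, X 0 j.succ = 0 := fun j => by simp [X, Fin.succ_ne_zero, (Fin.succ_ne_zero j).symm]
    have hXsub : X.submatrix Fin.succ Fin.succ = 1 := by
      ext i j
      simp [X, Matrix.one_apply, Fin.succ_ne_zero]
    have hXdet : X.det ∈ nonZeroDivisors A := by
      rw [det_block X hX0, hXsub, det_one, mul_one]
      simpa [X] using ha0
    refine hcancel M X hM hXdet (hblock X hX0 hXdet) ?_
    let M' := M * X
    have hM' : M'.det ∈ nonZeroDivisors A := by
      rw [show M'.det = M.det * X.det from det_mul M X]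
      exact mul_mem hM hXdet
    show cokerLen M' = Ring.ord A M'.det
    have hx' : M' 0 0 ∈ nonZeroDivisors A := by
      simpa [M', Matrix.mul_apply, X] using hx
    generalize hxe : M' 0 0 = x at hx'
    -- clearing the first row
    let D : Matrix (Fin (n + 1)) (Fin (n + 1)) A := Matrix.diagonal (Fin.cons 1 fun _ => x)
    let U : Matrix (Fin (n + 1)) (Fin (n + 1)) A :=
      Matrix.of fun i j => if i = j then 1 else if i = 0 then - M' 0 j else 0
    have hD0 : ∀ j : Fin n, D 0 j.succ = 0 := fun j => by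
      simp [D, (Fin.succ_ne_zero j).symm]
    have hDdet : D.det ∈ nonZeroDivisors A := by
      simp only [D, Matrix.det_diagonal, Fin.prod_univ_succ, Fin.cons_zero, Fin.cons_succ, one_mul,
        Finset.prod_const]
      exact pow_mem hx' _
    have hU : IsUnit U.det := by
      have : U.det = 1 := by
        rw [Matrix.det_of_isUpperTriangular (fun i j (hij : (j : Fin (n+1)) < i) => ?_)]
        · simp [U]
        · simp [U, hij.ne', (show i ≠ 0 from fun h => by simp [h] at hij)]
      simp [this]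
    have hDU : cokerLen (D * U) = Ring.ord A (D * U).det := by
      rw [cokerLen_mul D U hDdet, det_mul, Ring.ord_mul' A hDdet, hblock D hD0 hDdet,
        cokerLen_of_isUnit U hU, Ring.ord_of_isUnit hU, zero_add, add_zero]
    have hDUdet : (D * U).det ∈ nonZeroDivisors A := by
      rw [det_mul]; exact mul_mem hDdet hU.mem_nonZeroDivisors
    refine hcancel M' (D * U) hM' hDUdet hDU (hblock _ (fun j => ?_) (by
      rw [det_mul M' (D * U)]; exact mul_mem hM' hDUdet))
    have hval : ∀ i, (D * U) i j.succ = (Fin.cons 1 fun _ => x : Fin (n+1) → A) i * U i j.succ := fun i => by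
      simp [D, Matrix.diagonal_mul]
    rw [Matrix.mul_apply, Fin.sum_univ_succ, hval, hxe]
    simp [hval, U, (Fin.succ_ne_zero j).symm, Fin.succ_ne_zero, mul_comm]

end Groth.Agent.OrdDet
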