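import Mathlib
import Groth.Agent.OrdDet.Matrix

/-! Length of the cokernel of an endomorphism of a free module equals the order of the determinant. -/

namespace Groth.Agent.OrdDet

open Matrix

universe u v

/-- If every scalar of `S` acts like a scalar of `R`, lengths agree. -/
theorem length_eq_of_forall_exists {R S : Type*} [CommRing R] [CommRing S] [Algebra R S] {Q : Type*}
    [AddCommGroup Q] [Module R Q] [Module S Q] [IsScalarTower R S Q]
    (h : ∀ (b : S) (q : Q), ∃ a : R, b • q = a • q) : Module.length R Q = Module.length S Q := by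
  have e : Submodule S Q ≃o Submodule R Q := by
    refine RelIso.ofSurjective (Submodule.restrictScalarsEmbedding R S Q) fun N => ?_
    refine ⟨{ carrier := N, add_mem' := N.add_mem, zero_mem' := N.zero_mem, smul_mem' := fun b q hq => ?_ },
      Submodule.ext fun _ => Iff.rfl⟩
    obtain ⟨a, ha⟩ := h b q
    rw [ha]
    exact N.smul_mem a hq
  unfold Module.length
  rw [WithBot.unbot_inj]
  exact (Order.krullDim_eq_of_orderIso e).symm

variable {A : Type u} [CommRing A]

/-- Elements invertible modulo `d`. -/
def unitsMod (d : A) : Submonoid A :=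
  (IsUnit.submonoid (A ⧸ Ideal.span {d})).comap (Ideal.Quotient.mk (Ideal.span {d}))

theorem exists_inv_mod {d s : A} (hs : s ∈ unitsMod d) : ∃ t c, t * s = 1 + d * c := by
  obtain ⟨u, hu⟩ := IsUnit.exists_left_inv (show IsUnit (Ideal.Quotient.mk (Ideal.span {d}) s) from hs)
  obtain ⟨t, rfl⟩ := Ideal.Quotient.mk_surjective u
  rw [← map_mul, ← map_one (Ideal.Quotient.mk (Ideal.span {d})), Ideal.Quotient.eq] at hu
  obtain ⟨c, hc⟩ := Ideal.mem_span_singleton'.mp hu
  exact ⟨t, c, by linear_combination -hc⟩

theorem one_add_mul_mem {d : A} {s : A} (hs : s ∈ unitsMod d) (b : A) : s + d * b ∈ unitsMod d := by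
  show IsUnit (Ideal.Quotient.mk (Ideal.span {d}) (s + d * b))
  rw [map_add, map_mul, Ideal.Quotient.eq_zero_iff_mem.mpr (Ideal.mem_span_singleton_self d), zero_mul, add_zero]
  exact hs

variable (d : A)

local notation "B" => Localization (unitsMod d)

theorem exists_decomp (b : B) : ∃ (a : A) (z : B), b = algebraMap A B a + algebraMap A B d * z := by
  obtain ⟨⟨v, s⟩, hb⟩ := IsLocalization.surj (unitsMod d) b
  obtain ⟨t, c, htc⟩ := exists_inv_mod s.2
  refine ⟨v * t, -(algebraMap A B c * b), ?_⟩
  have h1 := congrArg (algebraMap A B) htc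
  simp only [map_mul, map_add, map_one] at h1
  simp only at hb
  rw [map_mul, ← hb]
  linear_combination -b * h1

theorem mem_maximal_loc (m : Ideal B) [hm : m.IsMaximal] : algebraMap A B d ∈ m := by
  by_contra hc
  obtain ⟨y, i, hi, h⟩ := hm.exists_inv hc
  obtain ⟨⟨v, s⟩, hy⟩ := IsLocalization.surj (unitsMod d) y
  simp only at hy
  apply hm.ne_top
  refine m.eq_top_of_isUnit_mem hi (isUnit_of_mul_isUnit_left (y := algebraMap A B (s : A)) ?_)
  have : i * algebraMap A B (s : A) = algebraMap A B ((s : A) + d * -v) := by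
    simp only [map_add, map_mul, map_neg]
    linear_combination (algebraMap A B (s : A)) * h - (algebraMap A B d) * hy
  rw [this]
  exact IsLocalization.map_units B (⟨_, one_add_mul_mem s.2 (-v)⟩ : unitsMod d)

theorem krullDimLE_loc [IsNoetherianRing A] (hd : ∀ P : Ideal A, P.IsPrime → d ∈ P → P.IsMaximal) :
    Ring.KrullDimLE 1 B := by
  rw [Ring.krullDimLE_iff, ringKrullDim_le_iff_isMaximal_height_le]
  intro m hm
  rw [← IsLocalization.height_under (unitsMod d) m]
  have hdp : d ∈ m.under A := mem_maximal_loc d m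
  have hmin : m.under A ∈ (Ideal.span {d}).minimalPrimes := by
    refine ⟨⟨inferInstance, (Ideal.span_singleton_le_iff_mem _).mpr hdp⟩, fun q hq hqm => ?_⟩
    exact ((hd q hq.1 (hq.2 (Ideal.mem_span_singleton_self d))).eq_of_le
      (Ideal.IsPrime.ne_top inferInstance) hqm).ge
  exact_mod_cast Ideal.height_le_one_of_isPrincipal_of_mem_minimalPrimes _ _ hmin

theorem nzd_loc (hd : d ∈ nonZeroDivisors A) : algebraMap A B d ∈ nonZeroDivisors B := by
  refine mem_nonZeroDivisors_iff_right.mpr fun z hz => ?_
  obtain ⟨⟨v, s⟩, hv⟩ := IsLocalization.surj (unitsMod d) z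
  simp only at hv
  have h0 : algebraMap A B (v * d) = 0 := by rw [map_mul, ← hv, mul_right_comm, hz, zero_mul]
  obtain ⟨c, hc⟩ := (IsLocalization.map_eq_zero_iff (unitsMod d) B _).mp h0
  rw [← mul_assoc] at hc
  have hcv : (c : A) * v = 0 := (mul_right_mem_nonZeroDivisors_eq_zero_iff hd).mp hc
  have : algebraMap A B v = 0 := (IsLocalization.map_eq_zero_iff (unitsMod d) B _).mpr ⟨c, hcv⟩
  rw [this] at hv
  exact (IsUnit.mul_left_eq_zero (IsLocalization.map_units B s)).mp hv

theorem cokerLen_loc {n : ℕ} (M : Matrix (Fin n) (Fin n) A) (hM : M.det = d) :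
    cokerLen M = cokerLen (M.map (algebraMap A B)) := by
  let MB := M.map (algebraMap A B)
  let N := LinearMap.range MB.mulVecLin
  have hdet : MB.det = algebraMap A B d := by
    exact (((algebraMap A B).map_det M).symm).trans (congrArg (algebraMap A B) hM)
  let g : (Fin n → A) →ₗ[A] (Fin n → B) ⧸ N :=
    (N.mkQ.restrictScalars A).comp (LinearMap.compLeft (Algebra.linearMap A B) (Fin n))
  have hdsmul : ∀ w : Fin n → B, algebraMap A B d • w ∈ N := fun w =>
    ⟨MB.adjugate *ᵥ w, by simp [mulVec_mulVec, mul_adjugate, hdet, smul_mulVec]⟩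
  have hmap : ∀ w : Fin n → A, (fun i => algebraMap A B ((M *ᵥ w) i)) = MB *ᵥ fun i => algebraMap A B (w i) := by
    intro w; funext i; exact (algebraMap A B).map_mulVec M w i
  have hg : Function.Surjective g := by
    intro q
    induction q using Submodule.Quotient.induction_on with
    | H w =>
      choose a z hz using fun i => exists_decomp d (w i)
      refine ⟨a, (Submodule.Quotient.eq N).mpr ?_⟩
      have : ((fun i => algebraMap A B (a i)) - w) = algebraMap A B d • (-z) := by
        funext i; simp [hz i]
      show (fun i => algebraMap A B (a i)) - w ∈ N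
      rw [this]; exact hdsmul _
  have hker : LinearMap.ker g = LinearMap.range M.mulVecLin := by
    ext v
    constructor
    · intro hv
      obtain ⟨w, hw⟩ := (Submodule.Quotient.mk_eq_zero N).mp hv
      obtain ⟨s, hs⟩ := IsLocalization.exist_integer_multiples (unitsMod d) Finset.univ w
      choose a ha using fun i => hs i (Finset.mem_univ i)
      have hsv : ∀ i, algebraMap A B ((s : A) * v i) = algebraMap A B ((M *ᵥ a) i) := fun i => by
        rw [congrFun (hmap a) i]
        have ha' : (fun j => algebraMap A B (a j)) = algebraMap A B (s : A) • w := funext fun j => by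
          rw [ha j]; simp [Algebra.smul_def]
        rw [ha', mulVec_smul, Pi.smul_apply, smul_eq_mul, map_mul]
        exact congrArg (algebraMap A B (s : A) * ·) (congrFun hw i).symm
      choose c hc using fun i => (IsLocalization.eq_iff_exists (unitsMod d) B).mp (hsv i)
      let C : unitsMod d := (∏ i, c i)
      have hC : (C : A) • (s : A) • v = (C : A) • (M *ᵥ a) := by
        funext i
        obtain ⟨c', hc'⟩ : c i ∣ C := Finset.dvd_prod_of_mem c (Finset.mem_univ i)
        simp only [Pi.smul_apply, smul_eq_mul]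
        rw [hc', Submonoid.coe_mul]
        linear_combination (c' : A) * hc i
      obtain ⟨t, e, hte⟩ := exists_inv_mod (mul_mem C.2 s.2)
      refine ⟨(t * (C : A)) • a - e • (M.adjugate *ᵥ v), ?_⟩
      rw [map_sub, map_smul, map_smul, mulVecLin_apply, mulVecLin_apply, mulVec_mulVec, mul_adjugate, hM,
        smul_mulVec, one_mulVec]
      funext i
      have h2 := congrFun hC i
      simp only [Pi.smul_apply, smul_eq_mul, Pi.sub_apply] at h2 ⊢
      linear_combination -t * h2 + v i * hte
    · rintro ⟨w, rfl⟩
      exact (Submodule.Quotient.mk_eq_zero N).mpr ⟨fun i => algebraMap A B (w i), (hmap w).symm⟩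
  calc cokerLen M = Module.length A ((Fin n → A) ⧸ LinearMap.ker g) := by rw [hker]; rfl
    _ = Module.length A ((Fin n → B) ⧸ N) := (LinearMap.quotKerEquivOfSurjective g hg).length_eq
    _ = Module.length B ((Fin n → B) ⧸ N) := by
      refine length_eq_of_forall_exists fun b q => ?_
      obtain ⟨a, z, hb⟩ := exists_decomp d b
      refine ⟨a, ?_⟩
      induction q using Submodule.Quotient.induction_on with
      | H w =>
        rw [hb, add_smul, mul_smul, algebraMap_smul, add_eq_left, ← Submodule.Quotient.mk_smul,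
          ← Submodule.Quotient.mk_smul, Submodule.Quotient.mk_eq_zero]
        exact hdsmul _

theorem prime_isMaximal_of_length_ne_top {P : Ideal A} [hP : P.IsPrime]
    (h : Module.length A (A ⧸ P) ≠ ⊤) : P.IsMaximal := by
  obtain ⟨-, h2⟩ := isFiniteLength_iff_isNoetherian_isArtinian.mp (Module.length_ne_top_iff.mp h)
  have : IsArtinianRing (A ⧸ P) := isArtinian_of_tower A h2
  exact Ideal.Quotient.maximal_of_isField P (IsArtinianRing.isField_of_isDomain (A ⧸ P))

theorem length_quot_prime_le {n : ℕ} (M : Matrix (Fin n) (Fin n) A) {P : Ideal A} [hP : P.IsPrime]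
    (hM : M.det ∈ P) (hfin : cokerLen M ≠ ⊤) : Module.length A (A ⧸ P) ≠ ⊤ := by
  let N := LinearMap.range M.mulVecLin
  let g : A →ₗ[A] (Fin n → (Fin n → A) ⧸ N) :=
    LinearMap.toSpanSingleton A _ fun j => Submodule.Quotient.mk (Pi.single j 1)
  have hk : LinearMap.ker g ≤ P := by
    intro e he
    have : ∀ j, ∃ w, M *ᵥ w = e • (Pi.single j 1 : Fin n → A) := fun j => by
      have h1 := congrFun (LinearMap.mem_ker.mp he) j
      simp only [g, LinearMap.toSpanSingleton_apply, Pi.smul_apply, ← Submodule.Quotient.mk_smul] at h1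
      exact (Submodule.Quotient.mk_eq_zero N).mp h1
    choose w hw using this
    have hMW : M * (Matrix.of fun i j => w j i) = e • 1 := by
      ext i j
      have := congrFun (hw j) i
      simpa [Matrix.mul_apply, mulVec, dotProduct, Pi.single_apply, Matrix.one_apply] using this
    have hen := congrArg Matrix.det hMW
    rw [det_mul, det_smul, det_one, mul_one, Fintype.card_fin] at hen
    exact hP.mem_of_pow_mem n (hen ▸ Ideal.mul_mem_right _ _ hM)
  have h1 : Module.length A (A ⧸ P) ≤ Module.length A (A ⧸ LinearMap.ker g) :=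
    Module.length_le_of_surjective (Submodule.factor hk) (Submodule.factor_surjective hk)
  have h2 : Module.length A (A ⧸ LinearMap.ker g) ≤ Module.length A (Fin n → (Fin n → A) ⧸ N) := by
    rw [g.quotKerEquivRange.length_eq]
    exact Module.length_le_of_injective (LinearMap.range g).subtype Subtype.val_injective
  refine ne_top_of_le_ne_top ?_ (h1.trans h2)
  rw [Module.length_pi_of_fintype]
  exact (ENat.sum_lt_top.mpr fun _ _ => lt_top_iff_ne_top.mpr hfin).ne

theorem cokerLen_eq_ord [IsNoetherianRing A] {n : ℕ} (M : Matrix (Fin n) (Fin n) A)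
    (hM : M.det ∈ nonZeroDivisors A) : cokerLen M = Ring.ord A M.det := by
  set d := M.det with hdM
  let D : Matrix (Fin 1) (Fin 1) A := Matrix.of fun _ _ => d
  have hDdet : D.det = d := by simp [D]
  have hD : cokerLen D = Ring.ord A d := by
    rw [cokerLen_block D (fun j => j.elim0) hM, show cokerLen (D.submatrix Fin.succ Fin.succ) = 0 from
      Module.length_eq_zero, zero_add]
    rfl
  by_cases hd : ∀ P : Ideal A, P.IsPrime → d ∈ P → P.IsMaximal
  · haveI := krullDimLE_loc d hd
    haveI : IsNoetherianRing (Localization (unitsMod d)) := IsLocalization.isNoetherianRing (unitsMod d) _ inferInstance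
    have hdet : ∀ {m : ℕ} (X : Matrix (Fin m) (Fin m) A), X.det = d →
        cokerLen X = Ring.ord (Localization (unitsMod d)) (algebraMap A _ d) := by
      intro m X hX
      rw [cokerLen_loc d X hX, cokerLen_eq_ord_det]
      · exact congrArg _ ((((algebraMap A (Localization (unitsMod d))).map_det X).symm).trans
          (congrArg (algebraMap A (Localization (unitsMod d))) hX))
      · rw [show (X.map (algebraMap A (Localization (unitsMod d)))).det = algebraMap A _ d from
          (((algebraMap A _).map_det X).symm).trans (congrArg _ hX)]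
        exact nzd_loc d hM
    rw [← hD, hdet M hdM.symm, hdet D hDdet]
  · push Not at hd
    obtain ⟨P, hP, hdP, hnm⟩ := hd
    have key : ∀ {m : ℕ} (X : Matrix (Fin m) (Fin m) A), X.det ∈ P → cokerLen X = ⊤ := by
      intro m X hX
      by_contra hne
      exact hnm (prime_isMaximal_of_length_ne_top (length_quot_prime_le X hX hne))
    rw [← hD, key M (hdM ▸ hdP), key D (hDdet.symm ▸ hdP)]

theorem length_coker_eq_ord [IsNoetherianRing A] {n : ℕ} (φ : (Fin n → A) →ₗ[A] (Fin n → A))
    (hφ : LinearMap.det φ ∈ nonZeroDivisors A) :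
    Module.length A ((Fin n → A) ⧸ LinearMap.range φ) = Ring.ord A (LinearMap.det φ) := by
  rw [← LinearMap.det_toMatrix'] at hφ ⊢
  rw [← cokerLen_eq_ord _ hφ, cokerLen]
  rw [show (LinearMap.toMatrix' φ).mulVecLin = φ from by rw [← Matrix.toLin'_apply', Matrix.toLin'_toMatrix']]

end Groth.Agent.OrdDet

namespace Groth.Agent.OrdDet

universe w

theorem cokerLen_eq_top {A : Type w} [CommRing A] {n : ℕ} (X : Matrix (Fin n) (Fin n) A) (P : Ideal A) [P.IsPrime]
    (hX : X.det ∈ P) (hP : ¬ P.IsMaximal) : cokerLen X = ⊤ := by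
  by_contra hne
  exact hP (prime_isMaximal_of_length_ne_top (length_quot_prime_le X hX hne))

end Groth.Agent.OrdDet
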