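import Mathlib
import Groth.Prelude.Def_Tame
import Groth.Agent.OrdDet.Main
import Groth.Agent.TFLib.Mult

/-! Distance between a lattice and its image under an automorphism. -/

namespace Groth.Agent.OrdDet

open Matrix

universe u v

section qlen

variable {R : Type u} [CommRing R] {V : Type v} [AddCommGroup V] [Module R V]

/-- Length of `X / (X ⊓ Y)`. -/
noncomputable def qlen (X Y : Submodule R V) : ℕ∞ := Module.length R (X ⧸ Y.submoduleOf X)

theorem qlen_add {K L M : Submodule R V} (h1 : K ≤ L) (h2 : L ≤ M) : qlen M K = qlen L K + qlen M L := by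
  let f : (L ⧸ K.submoduleOf L) →ₗ[R] M ⧸ K.submoduleOf M :=
    Submodule.mapQ _ _ (Submodule.inclusion h2) (fun x hx => hx)
  have hle : K.submoduleOf M ≤ L.submoduleOf M := fun x hx => h1 hx
  refine Module.length_eq_add_of_exact f (Submodule.factor hle) ?_ (Submodule.factor_surjective hle) ?_
  · rw [← LinearMap.ker_eq_bot, eq_bot_iff]
    intro z hz
    induction z using Submodule.Quotient.induction_on with
    | H x =>
      exact (Submodule.Quotient.mk_eq_zero (K.submoduleOf L)).mpr
        (show (x : V) ∈ K from ((Submodule.Quotient.mk_eq_zero (K.submoduleOf M)).mp hz :))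
  · intro z
    induction z using Submodule.Quotient.induction_on with
    | H x =>
      constructor
      · intro hx
        exact ⟨Submodule.Quotient.mk ⟨x.1, ((Submodule.Quotient.mk_eq_zero (L.submoduleOf M)).mp hx :)⟩, rfl⟩
      · rintro ⟨y, hy⟩
        induction y using Submodule.Quotient.induction_on with
        | H v =>
          rw [← hy]
          exact (Submodule.Quotient.mk_eq_zero (L.submoduleOf M)).mpr v.2

theorem qlen_self (X : Submodule R V) : qlen X X = 0 :=
  Module.length_eq_zero_iff.mpr (Submodule.Quotient.subsingleton_iff.mpr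
    (eq_top_iff.mpr fun x _ => x.2))

theorem qlen_map {W : Type*} [AddCommGroup W] [Module R W] (f : V →ₗ[R] W) (hf : Function.Injective f)
    (X Y : Submodule R V) : qlen (X.map f) (Y.map f) = qlen X Y := by
  refine (Submodule.Quotient.equiv (Y.submoduleOf X) ((Y.map f).submoduleOf (X.map f))
    (Submodule.equivMapOfInjective f hf X) ?_).length_eq.symm
  ext ⟨z, hz⟩
  simp only [Submodule.mem_map, LinearEquiv.coe_coe]
  constructor
  · rintro ⟨x, hx, hxz⟩
    show z ∈ Y.map f
    exact ⟨x, hx, congrArg Subtype.val hxz⟩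
  · intro h
    obtain ⟨x, hx, rfl⟩ := hz
    obtain ⟨y, hy, hyx⟩ := (h : f x ∈ Y.map f)
    exact ⟨⟨x, hx⟩, hf hyx ▸ hy, Subtype.ext rfl⟩

theorem qlen_top (P : Submodule R V) : qlen ⊤ P = Module.length R (V ⧸ P) :=
  (Submodule.Quotient.equiv _ P Submodule.topEquiv (by
    ext x
    simp only [Submodule.mem_map, LinearEquiv.coe_coe]
    exact ⟨fun ⟨a, ha, h⟩ => h ▸ ha, fun h => ⟨⟨x, trivial⟩, h, rfl⟩⟩)).length_eq

theorem qlen_range {n : ℕ} (j : (Fin n → R) →ₗ[R] V) (hj : Function.Injective j)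
    (C : Matrix (Fin n) (Fin n) R) :
    qlen (LinearMap.range j) ((LinearMap.range C.mulVecLin).map j) = cokerLen C := by
  rw [← Submodule.map_top, qlen_map j hj, qlen_top]
  rfl

end qlen

variable {A : Type u} [CommRing A] [IsDomain A] [IsNoetherianRing A] [Ring.KrullDimLE 1 A]
variable {K : Type u} [Field K] [Algebra A K] [IsFractionRing A K]

theorem ordFrac_div (a b : A) (ha : a ≠ 0) (hb : b ≠ 0) :
    CycAlg.ordFrac A K (algebraMap A K a / algebraMap A K b) =
      ((Ring.ord A a).toNat : ℤ) - ((Ring.ord A b).toNat : ℤ) := by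
  have ha' := mem_nonZeroDivisors_of_ne_zero ha
  have hb' := mem_nonZeroDivisors_of_ne_zero hb
  obtain ⟨m, hm⟩ := WithTop.ne_top_iff_exists.mp (Ring.ord_ne_top ha')
  obtain ⟨k, hk⟩ := WithTop.ne_top_iff_exists.mp (Ring.ord_ne_top hb')
  rw [CycAlg.ordFrac, dif_pos ⟨inferInstance, inferInstance, inferInstance, inferInstance⟩]
  have hval : ∀ (c : A) (p : ℕ) (hc : c ∈ nonZeroDivisors A), Ring.ord A c = (p : ℕ∞) →
      Ring.ordMonoidWithZeroHom A c = ((Multiplicative.ofAdd (p : ℤ) : Multiplicative ℤ) : WithZero (Multiplicative ℤ)) := by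
    intro c p hc hp
    rw [Ring.ordMonoidWithZeroHom_eq_ord hc, hp]
    rfl
  rw [show algebraMap A K a / algebraMap A K b = IsLocalization.mk' K (⟨a, ha'⟩ : nonZeroDivisors A).1 ⟨b, hb'⟩ from
    (IsFractionRing.mk'_eq_div (⟨b, hb'⟩ : nonZeroDivisors A)).symm, Ring.ordFrac_eq_div, hval a m ha' hm.symm, hval b k hb' hk.symm, ← WithZero.coe_div]
  rw [← hm, ← hk]
  rfl

variable {V : Type u} [AddCommGroup V] [Module K V] [Module A V] [IsScalarTower A K V]

theorem exists_smul_mem_of_span (P : Submodule A V) (hP : Submodule.span K (P : Set V) = ⊤) (x : V) :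
    ∃ c : A, c ≠ 0 ∧ c • x ∈ P := by
  have hx : x ∈ Submodule.span K (P : Set V) := hP ▸ trivial
  induction hx using Submodule.span_induction with
  | mem y hy => exact ⟨1, one_ne_zero, by simpa using hy⟩
  | zero => exact ⟨1, one_ne_zero, by simp⟩
  | add y z _ _ hy hz =>
    obtain ⟨c, hc, hcy⟩ := hy
    obtain ⟨d, hd, hdz⟩ := hz
    refine ⟨c * d, mul_ne_zero hc hd, ?_⟩
    rw [smul_add]
    exact P.add_mem (by rw [mul_comm, mul_smul]; exact P.smul_mem d hcy) (by rw [mul_smul]; exact P.smul_mem c hdz)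
  | smul k y _ hy =>
    obtain ⟨c, hc, hcy⟩ := hy
    obtain ⟨⟨a, s⟩, hs⟩ := IsLocalization.surj (nonZeroDivisors A) k
    refine ⟨c * s, mul_ne_zero hc (nonZeroDivisors.coe_ne_zero s), ?_⟩
    have : (c * (s : A)) • (k • y) = a • (c • y) := by
      rw [← algebraMap_smul K (c * (s : A)), ← algebraMap_smul K a, ← algebraMap_smul K c, smul_smul, smul_smul]
      congr 1
      rw [map_mul, ← hs]; ring
    rw [this]
    exact P.smul_mem a hcy

theorem qlen_ne_top (X P : Submodule A V) (hX : X.FG) (hP : Submodule.span K (P : Set V) = ⊤) :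
    qlen X P ≠ ⊤ := by
  classical
  obtain ⟨S, hS⟩ := hX
  choose c hc hcP using exists_smul_mem_of_span (K := K) P hP
  haveI : Module.Finite A X := Module.Finite.iff_fg.mpr ⟨S, hS⟩
  refine TFLib.length_ne_top_of_smul_eq_zero (r := ∏ x ∈ S, c x) (Finset.prod_ne_zero_iff.mpr fun x _ => hc x)
    fun q => ?_
  induction q using Submodule.Quotient.induction_on with
  | H y =>
    rw [← Submodule.Quotient.mk_smul, Submodule.Quotient.mk_eq_zero]
    show (∏ x ∈ S, c x) • (y : V) ∈ P
    have hle : X ≤ P.comap (LinearMap.lsmul A V (∏ x ∈ S, c x)) := by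
      rw [← hS, Submodule.span_le]
      intro z hz
      show (∏ x ∈ S, c x) • z ∈ P
      rw [← Finset.prod_erase_mul S c hz, mul_smul]
      exact P.smul_mem _ (hcP z)
    exact hle y.2

theorem latticeDist [FiniteDimensional K V] (M : Submodule A V) (hfg : M.FG)
    (hspan : Submodule.span K (M : Set V) = ⊤) (φ : V ≃ₗ[K] V) :
    let f := φ.toLinearMap.restrictScalars A
    (Submodule.span K ((M.map f : Submodule A V) : Set V) = ⊤) ∧
      qlen M (M ⊓ M.map f) < ⊤ ∧ qlen (M.map f) (M ⊓ M.map f) < ⊤ ∧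
      ((qlen M (M ⊓ M.map f)).toNat : ℤ) - ((qlen (M.map f) (M ⊓ M.map f)).toNat : ℤ) =
        CycAlg.ordFrac A K (LinearMap.det φ.toLinearMap) := by
  classical
  intro f
  have hf : Function.Injective f := φ.injective
  let n := Module.finrank K V
  let b₀ := Module.finBasis K V
  choose c hc hcM using fun i => exists_smul_mem_of_span (K := K) M hspan (b₀ i)
  have hcK : ∀ i, IsUnit (algebraMap A K (c i)) := fun i =>
    isUnit_iff_ne_zero.mpr (by simpa using hc i)
  let b := b₀.unitsSMul fun i => (hcK i).unit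
  have hbM : ∀ i, b i ∈ M := fun i => by
    simp only [b, Module.Basis.unitsSMul_apply, Units.smul_def, IsUnit.unit_spec, algebraMap_smul]
    exact hcM i
  let ι : (Fin n → A) →ₗ[A] V := Fintype.linearCombination A fun i => b i
  have hιapp : ∀ w : Fin n → A, ι w = b.equivFun.symm fun i => algebraMap A K (w i) := fun w => by
    simp [ι, Fintype.linearCombination_apply, Module.Basis.equivFun_symm_apply, algebraMap_smul]
    rfl
  have hι : Function.Injective ι := fun w w' h => funext fun i =>
    IsFractionRing.injective A K (congrFun (b.equivFun.symm.injective ((hιapp w).symm.trans (h.trans (hιapp w')))) i)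
  let Φ := LinearMap.toMatrix b b φ.toLinearMap
  obtain ⟨⟨e, he⟩, hint⟩ := IsLocalization.exist_integer_multiples (nonZeroDivisors A)
    (Finset.univ : Finset (Fin n × Fin n)) fun p => Φ p.1 p.2
  choose B hB using fun p : Fin n × Fin n => hint p (Finset.mem_univ p)
  let C : Matrix (Fin n) (Fin n) A := Matrix.of fun i j => B (i, j)
  have hC : C.map (algebraMap A K) = algebraMap A K e • Φ := by
    ext i j
    simp only [Matrix.map_apply, C, Matrix.of_apply, Matrix.smul_apply, smul_eq_mul]
    rw [hB (i, j), Algebra.smul_def]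
  have hcomm : ∀ w, ι (C *ᵥ w) = e • f (ι w) := by
    intro w
    rw [hιapp, hιapp]
    apply b.equivFun.injective
    rw [LinearEquiv.apply_symm_apply, ← algebraMap_smul K e, map_smul]
    have h2 : b.equivFun (f (b.equivFun.symm fun i => algebraMap A K (w i))) = Φ *ᵥ fun i => algebraMap A K (w i) := by
      have := LinearMap.toMatrix_mulVec_repr b b φ.toLinearMap (b.equivFun.symm fun i => algebraMap A K (w i))
      rw [show (b.repr (b.equivFun.symm fun i => algebraMap A K (w i)) : Fin n → K) =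
        fun i => algebraMap A K (w i) from b.equivFun.apply_symm_apply _] at this
      exact this.symm
    rw [h2, ← smul_mulVec, ← hC]
    funext i
    exact RingHom.map_mulVec (algebraMap A K) C w i
  have he0 : e ≠ 0 := nonZeroDivisors.ne_zero he
  have hdetK : algebraMap A K C.det = algebraMap A K e ^ n * LinearMap.det φ.toLinearMap := by
    rw [RingHom.map_det, RingHom.mapMatrix_apply, hC, Matrix.det_smul, LinearMap.det_toMatrix, Fintype.card_fin]
  have hφdet : LinearMap.det φ.toLinearMap ≠ 0 := φ.isUnit_det'.ne_zero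
  have hC0 : C.det ≠ 0 := fun h => by
    rw [h, map_zero] at hdetK
    exact mul_ne_zero (pow_ne_zero _ (by simpa using he0)) hφdet hdetK.symm
  let E : Matrix (Fin n) (Fin n) A := e • 1
  have hE : E.det = e ^ n := by simp [E]
  let F := LinearMap.range ι
  let G := (LinearMap.range C.mulVecLin).map ι
  have hG : G = (LinearMap.range E.mulVecLin).map (f ∘ₗ ι) := by
    apply le_antisymm
    · rintro _ ⟨_, ⟨w, rfl⟩, rfl⟩
      refine ⟨_, ⟨w, rfl⟩, ?_⟩
      rw [LinearMap.comp_apply, mulVecLin_apply, mulVecLin_apply, hcomm]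
      simp [E, smul_mulVec]
    · rintro _ ⟨_, ⟨w, rfl⟩, rfl⟩
      refine ⟨_, ⟨w, rfl⟩, ?_⟩
      rw [LinearMap.comp_apply, mulVecLin_apply, mulVecLin_apply, hcomm]
      simp [E, smul_mulVec]
  have hFG : qlen F G = Ring.ord A C.det := by
    rw [show qlen F G = cokerLen C from qlen_range ι hι C, cokerLen_eq_ord C (mem_nonZeroDivisors_of_ne_zero hC0)]
  have hFG' : qlen (F.map f) G = Ring.ord A (e ^ n) := by
    rw [hG, show F.map f = LinearMap.range (f ∘ₗ ι) from (LinearMap.range_comp ι f).symm,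
      qlen_range (f ∘ₗ ι) (hf.comp hι) E, cokerLen_eq_ord E (by rw [hE]; exact pow_mem he n), hE]
  have hFM : F ≤ M := by
    rintro _ ⟨w, rfl⟩
    rw [show ι w = ∑ i, w i • b i from Fintype.linearCombination_apply _ _ _]
    exact sum_mem fun i _ => M.smul_mem _ (hbM i)
  have hGF : G ≤ F := Submodule.map_le_iff_le_comap.mpr fun x _ => ⟨x, rfl⟩
  have hGF' : G ≤ F.map f := by
    rw [hG]
    rintro _ ⟨x, _, rfl⟩
    exact ⟨ι x, ⟨x, rfl⟩, rfl⟩
  let I := M ⊓ M.map f
  have hGI : G ≤ I := le_inf (hGF.trans hFM) (hGF'.trans (Submodule.map_mono hFM))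
  have hspanF : Submodule.span K (F : Set V) = ⊤ := by
    rw [eq_top_iff, ← b.span_eq]
    exact Submodule.span_mono (by rintro _ ⟨i, rfl⟩; exact ⟨Pi.single i 1, by simp [ι]⟩)
  have hspanmap : ∀ P : Submodule A V, Submodule.span K (P : Set V) = ⊤ →
      Submodule.span K ((P.map f : Submodule A V) : Set V) = ⊤ := fun P hP => by
    rw [Submodule.map_coe, show (f : V → V) = φ.toLinearMap from rfl, ← Submodule.map_span, hP, Submodule.map_top,
      LinearMap.range_eq_top]
    exact φ.surjective
  have hspanG : Submodule.span K (G : Set V) = ⊤ := by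
    rw [eq_top_iff, ← hspanmap F hspanF, Submodule.span_le]
    rintro _ ⟨_, ⟨w, rfl⟩, rfl⟩
    have hmem : e • f (ι w) ∈ G := ⟨C *ᵥ w, ⟨w, rfl⟩, hcomm w⟩
    have h3 := Submodule.smul_mem _ (algebraMap A K e)⁻¹ (Submodule.subset_span (R := K) hmem)
    rw [← algebraMap_smul K e (f (ι w)), inv_smul_smul₀ (by simpa using he0)] at h3
    exact h3
  have hfgf : (M.map f).FG := hfg.map f
  have f1 := qlen_ne_top (K := K) M G hfg hspanG
  have f2 := qlen_ne_top (K := K) (M.map f) G hfgf hspanG
  have a1 := qlen_add hGI (inf_le_left : I ≤ M)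
  have a2 := qlen_add hGI (inf_le_right : I ≤ M.map f)
  have a3 := qlen_add hGF hFM
  have a4 := qlen_add hGF' (Submodule.map_mono hFM)
  rw [qlen_map f hf, hFG'] at a4
  rw [hFG] at a3
  have n1 : qlen M I ≠ ⊤ ∧ qlen I G ≠ ⊤ := by
    rw [a1] at f1; exact ⟨fun h => f1 (by rw [h, add_top]), fun h => f1 (by rw [h, top_add])⟩
  have n2 : qlen (M.map f) I ≠ ⊤ := fun h => f2 (by rw [a2, h, add_top])
  have n3 : qlen M F ≠ ⊤ := fun h => f1 (by rw [a3, h, add_top])
  refine ⟨hspanmap M hspan, n1.1.lt_top, n2.lt_top, ?_⟩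
  have oe : Ring.ord A (e ^ n) ≠ ⊤ := Ring.ord_ne_top (pow_mem he n)
  have oc : Ring.ord A C.det ≠ ⊤ := Ring.ord_ne_top (mem_nonZeroDivisors_of_ne_zero hC0)
  have hdiv : LinearMap.det φ.toLinearMap = algebraMap A K C.det / algebraMap A K (e ^ n) := by
    rw [hdetK, map_pow, mul_div_cancel_left₀]
    exact pow_ne_zero _ (by simpa using he0)
  rw [hdiv, ordFrac_div C.det (e ^ n) hC0 (pow_ne_zero _ he0)]
  have t1 := congrArg ENat.toNat (a1.symm.trans a3)
  have t2 := congrArg ENat.toNat (a2.symm.trans a4)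
  rw [ENat.toNat_add n1.2 n1.1, ENat.toNat_add oc n3] at t1
  rw [ENat.toNat_add n1.2 n2, ENat.toNat_add oe n3] at t2
  show ((qlen M I).toNat : ℤ) - ((qlen (M.map f) I).toNat : ℤ) = _
  omega

end Groth.Agent.OrdDet
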